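import Groth.Agent.Lib.Morse.OrdGE
import Mathlib.RingTheory.MvPowerSeries.Expand
import Mathlib.RingTheory.PowerSeries.Substitution
import Mathlib.RingTheory.DiscreteValuationRing.Basic
import Mathlib.RingTheory.LocalRing.ResidueField.Basic
import Mathlib.FieldTheory.Finite.Basic

/-!
The Lubin–Tate lemma: series commuting with `πT + T^q` are determined by their linear part, and
exist for every linear part. The same for series linearising `πT + T^q` over a field.
-/

set_option linter.style.haveILetI false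

universe u

open MvPowerSeries GrothLib.Morse

namespace GrothLib.LubinTate

variable {R : Type u} [CommRing R] {σ τ : Type} [Finite σ] [Finite τ]

/-- The substitution `X_i ↦ π X_i + X_i ^ q`. -/
noncomputable def ltSub (π : R) (q : ℕ) : σ → MvPowerSeries σ R := fun i => π • X i + X i ^ q

/-- `φ` commutes with `π T + T ^ q`. -/
def IsEndo (π : R) (q : ℕ) (φ : MvPowerSeries σ R) : Prop := π • φ + φ ^ q = subst (ltSub π q) φ

/-- `φ` linearises `π T + T ^ q`. -/
def IsLog (π : R) (q : ℕ) (φ : MvPowerSeries σ R) : Prop := subst (ltSub π q) φ = π • φ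

theorem hasSubst_ltSub (π : R) {q : ℕ} (hq : q ≠ 0) :
    HasSubst (ltSub π q : σ → MvPowerSeries σ R) :=
  hasSubst_of_constantCoeff_zero fun i => by
    simp [ltSub, MvPowerSeries.smul_eq_C_mul, zero_pow hq]

theorem hasSubst_of_ordGE {h : σ → MvPowerSeries τ R} (hh : ∀ i, OrdGE 1 (h i)) : HasSubst h :=
  hasSubst_of_constantCoeff_zero fun i => by
    rw [← coeff_zero_eq_constantCoeff_apply]; exact hh i 0 (by simp)

omit [Finite σ] in
theorem ordGE_one_iff {f : MvPowerSeries σ R} : OrdGE 1 f ↔ constantCoeff f = 0 := by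
  refine ⟨fun h => by rw [← coeff_zero_eq_constantCoeff_apply]; exact h 0 (by simp), fun h e he => ?_⟩
  rw [(Finsupp.degree_eq_zero_iff e).mp (by omega), coeff_zero_eq_constantCoeff_apply, h]

theorem OrdGE.subst {h : σ → MvPowerSeries τ R} (hh : ∀ i, OrdGE 1 (h i)) {N : ℕ}
    {f : MvPowerSeries σ R} (hf : OrdGE N f) : OrdGE N (subst h f) := by
  intro e he
  rw [coeff_subst (hasSubst_of_ordGE hh)]
  refine finsum_eq_zero_of_forall_eq_zero fun d => ?_
  rcases Nat.lt_or_ge d.degree N with hd | hd
  · rw [hf d hd, zero_smul]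
  · have key : OrdGE d.degree (d.prod fun i k => h i ^ k) := by
      clear hd
      induction d using Finsupp.induction with
      | zero => exact ordGE_zero _
      | single_add i k d hid hk ih =>
        rw [Finsupp.prod_add_index' (fun _ => pow_zero _) (fun _ _ _ => pow_add _ _ _),
          Finsupp.prod_single_index (by simp), map_add, Finsupp.degree_single]
        refine OrdGE.mul ?_ ih
        clear hk
        induction k with
        | zero => exact ordGE_zero _
        | succ k ihk => rw [pow_succ]; exact ihk.mul (hh i)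
    rw [key e (by omega), smul_zero]

theorem coeff_subst_ltSub (π : R) {q : ℕ} (hq : 2 ≤ q) {t : ℕ} {f : MvPowerSeries σ R}
    (hf : OrdGE t f) {e : σ →₀ ℕ} (he : e.degree ≤ t) :
    coeff e (subst (ltSub π q) f) = π ^ e.degree * coeff e f := by
  classical
  have key : ∀ d : σ →₀ ℕ,
      OrdGE (d.degree + 1) (d.prod (fun i k => (ltSub π q i) ^ k) - monomial d (π ^ d.degree)) := by
    have mul : ∀ {α β : σ →₀ ℕ} {P Q : MvPowerSeries σ R},
        OrdGE (α.degree + 1) (P - monomial α (π ^ α.degree)) →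
        OrdGE (β.degree + 1) (Q - monomial β (π ^ β.degree)) →
        OrdGE ((α + β).degree + 1) (P * Q - monomial (α + β) (π ^ (α + β).degree)) := by
      intro α β P Q hP hQ
      have hQ' : OrdGE β.degree Q := by
        have := (hQ.mono (Nat.le_succ _)).add (ordGE_monomial β (π ^ β.degree))
        simpa using this
      have e : P * Q - monomial (α + β) (π ^ (α + β).degree) =
          (P - monomial α (π ^ α.degree)) * Q +
            monomial α (π ^ α.degree) * (Q - monomial β (π ^ β.degree)) := by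
        have hm : monomial α (π ^ α.degree) * monomial β (π ^ β.degree) =
            monomial (α + β) (π ^ (α + β).degree) := by
          rw [monomial_mul_monomial, map_add, pow_add]
        linear_combination hm
      rw [e, map_add]
      exact ((hP.mul hQ').mono (by omega)).add
        (((ordGE_monomial α (π ^ α.degree)).mul hQ).mono (by omega))
    have pow : ∀ (i : σ) (k : ℕ), OrdGE ((Finsupp.single i k).degree + 1)
        ((ltSub π q i) ^ k - monomial (Finsupp.single i k) (π ^ (Finsupp.single i k).degree)) := by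
      intro i k
      induction k with
      | zero =>
        rw [pow_zero, Finsupp.single_zero, map_zero, pow_zero, monomial_zero_one, sub_self]
        exact ordGE_of_zero _
      | succ k ih =>
        rw [pow_succ, Finsupp.single_add]
        refine mul ih ?_
        rw [Finsupp.degree_single, pow_one]
        have : ltSub π q i - monomial (Finsupp.single i 1) π = X i ^ q := by
          rw [ltSub, X_def, ← map_smul, smul_eq_mul, mul_one]
          ring
        rw [this]
        have hX : OrdGE (1 * 1 + 1) (X i * X i : MvPowerSeries σ R) := (ordGE_X i).mul (ordGE_X i)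
        obtain ⟨r, rfl⟩ := Nat.exists_eq_add_of_le hq
        rw [pow_add, pow_two]
        exact hX.mul_right _
    intro d
    induction d using Finsupp.induction with
    | zero =>
      rw [Finsupp.prod_zero_index, map_zero, pow_zero, monomial_zero_one, sub_self]
      exact ordGE_of_zero _
    | single_add i k d hid hk ih =>
      rw [Finsupp.prod_add_index' (fun _ => pow_zero _) (fun _ _ _ => pow_add _ _ _),
        Finsupp.prod_single_index (by simp)]
      exact mul (pow i k) ih
  rw [coeff_subst (hasSubst_ltSub π (by omega)), finsum_eq_single _ e]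
  · have := key e e (Nat.lt_succ_self _)
    rw [map_sub, coeff_monomial_same, sub_eq_zero] at this
    rw [this, smul_eq_mul, mul_comm]
  · intro c hce
    rcases Nat.lt_or_ge c.degree t with h | h
    · rw [hf c h, zero_smul]
    · have := key c e (by omega)
      rw [map_sub, coeff_monomial, if_neg (Ne.symm hce), sub_zero] at this
      rw [this, smul_zero]

omit [Finite σ] in
theorem ordGE_pow_sub_pow {φ φ' : MvPowerSeries σ R} (h : OrdGE 1 φ) (h' : OrdGE 1 φ') {t : ℕ}
    (hd : OrdGE t (φ - φ')) {q : ℕ} (hq : 2 ≤ q) : OrdGE (t + 1) (φ ^ q - φ' ^ q) := by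
  obtain ⟨r, rfl⟩ := Nat.exists_eq_add_of_le hq
  have hall : ∀ k, OrdGE t (φ ^ k - φ' ^ k) := by
    intro k
    obtain ⟨c, hc⟩ := sub_dvd_pow_sub_pow φ φ' k
    rw [hc]
    exact hd.mul_right c
  have e : φ ^ (2 + r) - φ' ^ (2 + r) = φ * (φ ^ (1 + r) - φ' ^ (1 + r)) + (φ - φ') * (φ' * φ' ^ r) := by
    ring
  rw [e]
  exact (((h.mul (hall _))).mono (by omega)).add ((hd.mul (h'.mul_right _)).mono (by omega))

/-- Solving an equation whose linearisation in degree `t` is multiplication by `lam t`. -/
theorem existsUnique_of_defect [IsDomain R] (D : MvPowerSeries σ R → MvPowerSeries σ R) (lam : ℕ → R)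
    (hlam : ∀ t, 2 ≤ t → lam t ≠ 0)
    (hD : ∀ φ φ', OrdGE 1 φ → OrdGE 1 φ' → ∀ t, OrdGE t (φ - φ') → ∀ e : σ →₀ ℕ, e.degree ≤ t →
      coeff e (D φ - D φ') = lam e.degree * coeff e (φ - φ'))
    (hdvd : ∀ φ, OrdGE 1 φ → ∀ e : σ →₀ ℕ, 2 ≤ e.degree → lam e.degree ∣ coeff e (D φ))
    (L : MvPowerSeries σ R) (hL : OrdGE 1 L) (hDL : OrdGE 2 (D L)) :
    ∃! φ, OrdGE 1 φ ∧ OrdGE 2 (φ - L) ∧ D φ = 0 := by
  classical
  choose! r hr using hdvd
  have hone : ∀ g, OrdGE 2 g → OrdGE 1 (L + g) := fun g hg => hL.add (hg.mono one_le_two)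
  let Φ : (Unit → MvPowerSeries σ R) → Unit → MvPowerSeries σ R := fun g _ e =>
    if e.degree < 2 then 0 else coeff e (g ()) - r (L + g ()) e
  have hΦ : ∀ g e, coeff e (Φ g ()) =
      if e.degree < 2 then 0 else coeff e (g ()) - r (L + g ()) e := fun g e => rfl
  obtain ⟨g, hg, hfix⟩ := exists_fixed 2 Φ (fun g _ _ e he => by rw [hΦ, if_pos he])
    (fun g g' hg hg' t ht _ e he => by
      rw [map_sub, hΦ, hΦ]
      rcases Nat.lt_or_ge e.degree 2 with h2 | h2
      · rw [if_pos h2, if_pos h2, sub_zero]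
      rw [if_neg (not_lt.mpr h2), if_neg (not_lt.mpr h2)]
      have hsub : L + g () - (L + g' ()) = g () - g' () := by ring
      have h := hD _ _ (hone _ (hg ())) (hone _ (hg' ())) t (by rw [hsub]; exact ht ()) e (by omega)
      rw [hsub, map_sub, hr _ (hone _ (hg ())) e h2, hr _ (hone _ (hg' ())) e h2, ← mul_sub] at h
      have h' := mul_left_cancel₀ (hlam _ h2) h
      rw [map_sub] at h'
      linear_combination -h')
  refine ⟨L + g (), ⟨hone _ (hg ()), by simpa using hg (), ?_⟩, ?_⟩
  · ext e
    rw [map_zero]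
    rcases Nat.lt_or_ge e.degree 2 with h2 | h2
    · have h := hD _ _ (hone _ (hg ())) hL 2 (by simpa using hg ()) e h2.le
      rw [map_sub, hDL e h2, sub_zero, add_sub_cancel_left, hg () e h2, mul_zero] at h
      exact h
    · have h := hΦ g e
      rw [hfix, if_neg (not_lt.mpr h2), eq_comm, sub_eq_self] at h
      rw [hr _ (hone _ (hg ())) e h2, h, mul_zero]
  · rintro φ ⟨hφ, hφL, hDφ⟩
    refine eq_of_forall fun t => ?_
    induction t with
    | zero => exact ordGE_zero _
    | succ t ih =>
      intro e he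
      rcases Nat.lt_or_ge e.degree 2 with h2 | h2
      · have : φ - (L + g ()) = (φ - L) - g () := by ring
        rw [this]
        exact (hφL.sub (hg ())) e h2
      have h := hD _ _ hφ (hone _ (hg ())) t ih e (by omega)
      rw [hDφ] at h
      have hD0 : coeff e (D (L + g ())) = 0 := by
        have h := hΦ g e
        rw [hfix, if_neg (not_lt.mpr h2), eq_comm, sub_eq_self] at h
        rw [hr _ (hone _ (hg ())) e h2, h, mul_zero]
      rw [map_sub, hD0, map_zero, sub_zero] at h
      exact (mul_eq_zero.mp h.symm).resolve_left (hlam _ h2)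

theorem IsEndo.subst {π : R} {q : ℕ} (hq : q ≠ 0) {G : MvPowerSeries σ R} (hG : IsEndo π q G)
    {h : σ → MvPowerSeries τ R} (hh : ∀ i, OrdGE 1 (h i)) (he : ∀ i, IsEndo π q (h i)) :
    IsEndo π q (MvPowerSeries.subst h G) := by
  have hs := hasSubst_of_ordGE hh
  unfold IsEndo at *
  rw [← subst_pow hs, ← subst_smul hs, ← subst_add hs, hG,
    subst_comp_subst_apply (hasSubst_ltSub π hq) hs, subst_comp_subst_apply hs (hasSubst_ltSub π hq)]
  congr 1
  funext i
  rw [← he i, ltSub, subst_add hs, subst_smul hs, subst_pow hs, subst_X hs]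

theorem isEndo_X {π : R} {q : ℕ} (hq : q ≠ 0) (i : σ) : IsEndo π q (X i : MvPowerSeries σ R) := by
  rw [IsEndo, subst_X (hasSubst_ltSub π hq)]
  rfl

theorem IsLog.subst {π : R} {q : ℕ} (hq : q ≠ 0) {G : MvPowerSeries σ R} (hG : IsLog π q G)
    {h : σ → MvPowerSeries τ R} (hh : ∀ i, OrdGE 1 (h i)) (he : ∀ i, IsEndo π q (h i)) :
    IsLog π q (MvPowerSeries.subst h G) := by
  have hs := hasSubst_of_ordGE hh
  unfold IsLog at *
  rw [← subst_smul hs, ← hG,
    subst_comp_subst_apply (hasSubst_ltSub π hq) hs, subst_comp_subst_apply hs (hasSubst_ltSub π hq)]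
  congr 1
  funext i
  rw [ltSub, subst_add hs, subst_smul hs, subst_pow hs, subst_X hs]
  exact (he i).symm

theorem IsLog.add {π : R} {q : ℕ} (hq : q ≠ 0) {φ ψ : MvPowerSeries σ R} (h : IsLog π q φ)
    (h' : IsLog π q ψ) : IsLog π q (φ + ψ) := by
  unfold IsLog at *
  rw [subst_add (hasSubst_ltSub π hq), h, h', smul_add]

theorem IsLog.smul {π : R} {q : ℕ} (hq : q ≠ 0) {φ : MvPowerSeries σ R} (h : IsLog π q φ) (c : R) :
    IsLog π q (c • φ) := by
  unfold IsLog at *
  rw [subst_smul (hasSubst_ltSub π hq), h, smul_comm]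

/-- The linear form with given coefficients. -/
noncomputable def linForm [Fintype σ] (l : σ → R) : MvPowerSeries σ R := ∑ i, l i • X i

omit [Finite σ] in
theorem ordGE_linForm [Fintype σ] (l : σ → R) : OrdGE 1 (linForm l) :=
  OrdGE.sum fun i _ => by rw [MvPowerSeries.smul_eq_C_mul]; exact (ordGE_X i).mul_left _

omit [Finite σ] in
theorem coeff_linForm [Fintype σ] (l : σ → R) (j : σ) :
    coeff (Finsupp.single j 1) (linForm l) = l j := by
  classical
  simp [linForm, map_sum, coeff_X, Finsupp.single_left_inj (one_ne_zero : (1 : ℕ) ≠ 0)]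

omit [Finite σ] in
theorem ordGE_two_iff {f : MvPowerSeries σ R} :
    OrdGE 2 f ↔ constantCoeff f = 0 ∧ ∀ i, coeff (Finsupp.single i 1) f = 0 := by
  refine ⟨fun h => ⟨ordGE_one_iff.mp (h.mono one_le_two), fun i => h _ (by simp [Finsupp.degree_single])⟩,
    fun ⟨h0, h1⟩ e he => ?_⟩
  rcases Nat.lt_or_ge e.degree 1 with h | h
  · exact ordGE_one_iff.mpr h0 e h
  obtain ⟨i, hi⟩ : ∃ i, e i ≠ 0 := by
    by_contra hc
    push Not at hc
    have : e = 0 := Finsupp.ext hc
    simp [this] at h
  have hle : Finsupp.single i 1 ≤ e := by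
    intro j
    by_cases hj : j = i
    · subst hj; simp; omega
    · simp [Finsupp.single_eq_of_ne hj]
  obtain ⟨d, rfl⟩ := exists_add_of_le hle
  rw [map_add, Finsupp.degree_single] at he
  rw [(Finsupp.degree_eq_zero_iff d).mp (by omega), add_zero]
  exact h1 i

theorem coeff_single_subst [Fintype σ] {G : MvPowerSeries σ R} (hG : OrdGE 1 G)
    {h : σ → MvPowerSeries τ R} (hh : ∀ i, OrdGE 1 (h i)) (j : τ) :
    coeff (Finsupp.single j 1) (subst h G) =
      ∑ i, coeff (Finsupp.single i 1) G * coeff (Finsupp.single j 1) (h i) := by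
  let l : σ → R := fun i => coeff (Finsupp.single i 1) G
  have hr : OrdGE 2 (G - linForm l) := by
    refine ordGE_two_iff.mpr ⟨?_, fun i => ?_⟩
    · rw [map_sub, ordGE_one_iff.mp hG, ordGE_one_iff.mp (ordGE_linForm l), sub_zero]
    · rw [map_sub, coeff_linForm, sub_self]
  have hs := hasSubst_of_ordGE hh
  have h2 := OrdGE.subst hh hr (Finsupp.single j 1) (by simp [Finsupp.degree_single])
  rw [← substAlgHom_apply hs, map_sub, map_sub, sub_eq_zero] at h2
  rw [← substAlgHom_apply hs, h2, linForm, map_sum, map_sum]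
  refine Finset.sum_congr rfl fun i _ => ?_
  rw [map_smul, substAlgHom_apply hs, subst_X hs, map_smul, smul_eq_mul]

theorem existsUnique_isLog {K : Type u} [Field K] [Fintype σ] (π : K) (hπ : ∀ t, 2 ≤ t → π ^ t ≠ π)
    {q : ℕ} (hq : 2 ≤ q) (l : σ → K) :
    ∃! φ : MvPowerSeries σ K, OrdGE 1 φ ∧ OrdGE 2 (φ - linForm l) ∧ IsLog π q φ := by
  have hs := hasSubst_ltSub (σ := σ) π (q := q) (by omega)
  have key := existsUnique_of_defect (fun φ : MvPowerSeries σ K => subst (ltSub π q) φ - π • φ)
    (fun t => π ^ t - π) (fun t ht => sub_ne_zero.mpr (hπ t ht))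
    (fun φ φ' _ _ t ht e he => by
      have h := coeff_subst_ltSub π hq ht he
      rw [subst_sub hs, map_sub] at h
      simp only [map_sub, map_smul, smul_eq_mul] at h ⊢
      linear_combination h)
    (fun φ _ e he => (IsUnit.mk0 _ (sub_ne_zero.mpr (hπ _ he))).dvd) (linForm l) (ordGE_linForm l)
    (fun e he => by
      have h := coeff_subst_ltSub π hq (ordGE_linForm l) (e := e) (by omega)
      rw [map_sub, map_smul, h, smul_eq_mul]
      rcases Nat.lt_or_ge e.degree 1 with h0 | h0
      · rw [ordGE_linForm l e h0]; ring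
      · rw [show e.degree = 1 by omega]; ring)
  simpa only [IsLog, sub_eq_zero] using key

variable {O : Type u} [CommRing O] [IsDomain O] [IsDiscreteValuationRing O]
  [Finite (IsLocalRing.ResidueField O)]

theorem two_le_card : 2 ≤ Nat.card (IsLocalRing.ResidueField O) :=
  Finite.one_lt_card

theorem pow_ne_self {π : O} (hπ : Irreducible π) (t : ℕ) (ht : 2 ≤ t) : π ^ t ≠ π := by
  intro h
  obtain ⟨k, rfl⟩ := Nat.exists_eq_add_of_le ht
  have h1 : π * π ^ (1 + k) = π * 1 := by rw [← pow_succ', mul_one, show 1 + k + 1 = 2 + k by omega, h]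
  have h2 := mul_left_cancel₀ hπ.ne_zero h1
  exact hπ.not_isUnit (IsUnit.of_pow_eq_one h2 (by omega))

omit [Finite σ] in
/-- Modulo `π`, raising to the power `q` is expansion by `q`. -/
theorem dvd_coeff_pow_sub_expand {π : O} (hπ : Irreducible π) (φ : MvPowerSeries σ O) (e : σ →₀ ℕ) :
    π ∣ coeff e (φ ^ Nat.card (IsLocalRing.ResidueField O) -
      expand (Nat.card (IsLocalRing.ResidueField O)) (two_le_card.trans_lt' Nat.zero_lt_two).ne' φ) := by
  letI := Fintype.ofFinite (IsLocalRing.ResidueField O)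
  obtain ⟨p, hp⟩ := CharP.exists (IsLocalRing.ResidueField O)
  obtain ⟨n, hpp, hn⟩ := FiniteField.card (IsLocalRing.ResidueField O) p
  haveI : Fact p.Prime := ⟨hpp⟩
  haveI : ExpChar (IsLocalRing.ResidueField O) p := ExpChar.prime hpp
  have hq : Nat.card (IsLocalRing.ResidueField O) = p ^ (n : ℕ) := by rw [Nat.card_eq_fintype_card, hn]
  rw [← Ideal.mem_span_singleton, ← hπ.maximalIdeal_eq, ← IsLocalRing.residue_eq_zero_iff,
    ← coeff_map, map_sub, map_pow, map_expand, map_sub, sub_eq_zero]
  have key := map_iterateFrobenius_expand (R := IsLocalRing.ResidueField O) p hpp.ne_zero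
    (MvPowerSeries.map (IsLocalRing.residue O) φ) (n : ℕ)
  have hid : iterateFrobenius (IsLocalRing.ResidueField O) p (n : ℕ) = RingHom.id _ := by
    ext x
    rw [iterateFrobenius_def, RingHom.id_apply, ← hn, FiniteField.pow_card]
  rw [hid, MvPowerSeries.map_id, RingHom.id_apply] at key
  simp only [hq]
  rw [← key]

theorem existsUnique_isEndo [Fintype σ] {π : O} (hπ : Irreducible π) (l : σ → O) :
    ∃! φ : MvPowerSeries σ O, OrdGE 1 φ ∧ OrdGE 2 (φ - linForm l) ∧
      IsEndo π (Nat.card (IsLocalRing.ResidueField O)) φ := by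
  set q := Nat.card (IsLocalRing.ResidueField O) with hqdef
  have hq : 2 ≤ q := two_le_card
  have hs := hasSubst_ltSub (σ := σ) π (q := q) (by omega)
  have key := existsUnique_of_defect
    (fun φ : MvPowerSeries σ O => π • φ + φ ^ q - subst (ltSub π q) φ)
    (fun t => π - π ^ t) (fun t ht => sub_ne_zero.mpr (pow_ne_self hπ t ht).symm)
    (fun φ φ' hφ hφ' t ht e he => by
      have h := coeff_subst_ltSub π hq ht he
      have h2 := ordGE_pow_sub_pow hφ hφ' ht hq e (by omega)
      rw [subst_sub hs, map_sub] at h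
      simp only [map_sub, map_add, map_smul, smul_eq_mul] at h h2 ⊢
      linear_combination h2 - h)
    (fun φ hφ e he => by
      have hu : IsUnit (1 - π ^ (e.degree - 1)) := by
        refine IsLocalRing.isUnit_one_sub_self_of_mem_nonunits _ ?_
        exact fun hu => hπ.not_isUnit ((isUnit_pow_iff (by omega)).mp hu)
      have hdv : π ∣ coeff e (π • φ + φ ^ q - subst (ltSub π q) φ) := by
        have h1 : π ∣ coeff e (φ ^ q - expand q (by omega) φ) := dvd_coeff_pow_sub_expand hπ φ e
        have h2 : π ∣ coeff e (subst (ltSub π q) φ - expand q (by omega) φ) := by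
          rw [← Ideal.mem_span_singleton, ← hπ.maximalIdeal_eq, ← IsLocalRing.residue_eq_zero_iff,
            ← coeff_map, map_sub, map_expand, map_subst hs, map_sub, sub_eq_zero]
          have hlt : (fun i => MvPowerSeries.map (IsLocalRing.residue O) (ltSub π q i)) =
              fun i : σ => X i ^ q := by
            funext i
            have h0 : IsLocalRing.residue O π = 0 :=
              (IsLocalRing.residue_eq_zero_iff π).mpr (hπ.maximalIdeal_eq ▸ Ideal.mem_span_singleton_self π)
            simp [ltSub, MvPowerSeries.smul_eq_C_mul, h0]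
          rw [hlt, MvPowerSeries.expand, substAlgHom_apply]
        simp only [map_sub, map_add, map_smul, smul_eq_mul] at h1 h2 ⊢
        have e1 : π * coeff e φ + coeff e (φ ^ q) - coeff e (subst (ltSub π q) φ) =
            π * coeff e φ + (coeff e (φ ^ q) - coeff e (expand q (by omega) φ)) -
              (coeff e (subst (ltSub π q) φ) - coeff e (expand q (by omega) φ)) := by ring
        rw [e1]
        exact dvd_sub (dvd_add (dvd_mul_right _ _) h1) h2
      have e2 : π - π ^ e.degree = π * (1 - π ^ (e.degree - 1)) := by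
        rw [mul_sub, mul_one, ← pow_succ', Nat.sub_add_cancel (by omega)]
      rw [e2]
      exact (IsUnit.mul_right_dvd hu).mpr hdv)
    (linForm l) (ordGE_linForm l)
    (fun e he => by
      have h := coeff_subst_ltSub π hq (ordGE_linForm l) (e := e) (by omega)
      have hp := ordGE_pow_sub_pow (ordGE_linForm l) (ordGE_of_zero 1) (t := 1)
        (by simpa using ordGE_linForm l) hq e he
      rw [zero_pow (by omega), sub_zero] at hp
      rw [map_sub, map_add, map_smul, h, hp, smul_eq_mul]
      rcases Nat.lt_or_ge e.degree 1 with h0 | h0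
      · rw [ordGE_linForm l e h0]; ring
      · rw [show e.degree = 1 by omega]; ring)
  simpa only [IsEndo, sub_eq_zero] using key

/-- Series commuting with `πT + T^q` are determined by their linear part. -/
theorem IsEndo.ext [Fintype σ] {π : O} (hπ : Irreducible π) {φ ψ : MvPowerSeries σ O}
    (hφ0 : OrdGE 1 φ) (hψ0 : OrdGE 1 ψ) (hφ : IsEndo π (Nat.card (IsLocalRing.ResidueField O)) φ)
    (hψ : IsEndo π (Nat.card (IsLocalRing.ResidueField O)) ψ)
    (h : ∀ i, coeff (Finsupp.single i 1) φ = coeff (Finsupp.single i 1) ψ) : φ = ψ := by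
  let l : σ → O := fun i => coeff (Finsupp.single i 1) ψ
  have hlin : ∀ χ : MvPowerSeries σ O, OrdGE 1 χ →
      (∀ i, coeff (Finsupp.single i 1) χ = l i) → OrdGE 2 (χ - linForm l) := fun χ h0 h1 =>
    ordGE_two_iff.mpr ⟨by rw [map_sub, ordGE_one_iff.mp h0, ordGE_one_iff.mp (ordGE_linForm l), sub_zero],
      fun i => by rw [map_sub, h1 i, coeff_linForm, sub_self]⟩
  exact (existsUnique_isEndo hπ l).unique ⟨hφ0, hlin φ hφ0 h, hφ⟩ ⟨hψ0, hlin ψ hψ0 fun _ => rfl, hψ⟩

/-- Series linearising `πT + T^q` are determined by their linear part. -/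
theorem IsLog.ext {K : Type u} [Field K] [Fintype σ] {π : K} (hπ : ∀ t, 2 ≤ t → π ^ t ≠ π) {q : ℕ}
    (hq : 2 ≤ q) {φ ψ : MvPowerSeries σ K} (hφ0 : OrdGE 1 φ) (hψ0 : OrdGE 1 ψ) (hφ : IsLog π q φ)
    (hψ : IsLog π q ψ) (h : ∀ i, coeff (Finsupp.single i 1) φ = coeff (Finsupp.single i 1) ψ) :
    φ = ψ := by
  let l : σ → K := fun i => coeff (Finsupp.single i 1) ψ
  have hlin : ∀ χ : MvPowerSeries σ K, OrdGE 1 χ →
      (∀ i, coeff (Finsupp.single i 1) χ = l i) → OrdGE 2 (χ - linForm l) := fun χ h0 h1 =>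
    ordGE_two_iff.mpr ⟨by rw [map_sub, ordGE_one_iff.mp h0, ordGE_one_iff.mp (ordGE_linForm l), sub_zero],
      fun i => by rw [map_sub, h1 i, coeff_linForm, sub_self]⟩
  exact (existsUnique_isLog π hπ hq l).unique ⟨hφ0, hlin φ hφ0 h, hφ⟩ ⟨hψ0, hlin ψ hψ0 fun _ => rfl, hψ⟩

end GrothLib.LubinTate
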