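import Groth.Agent.Lib.LubinTate.Basic
import Mathlib.RingTheory.FormalGroup.Basic

/-!
Bridges between one-variable power series and the multivariate Lubin–Tate lemma.
-/

set_option linter.style.haveILetI false

universe u

open MvPowerSeries GrothLib.Morse

namespace GrothLib.LubinTate

variable {R : Type u} [CommRing R] {π : R} {q : ℕ} {f : PowerSeries R}

theorem psSubst_eq {σ : Type} [Finite σ] (hf : f = π • PowerSeries.X + PowerSeries.X ^ q)
    {φ : MvPowerSeries σ R} (hφ : OrdGE 1 φ) : PowerSeries.subst φ f = π • φ + φ ^ q := by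
  have hs : PowerSeries.HasSubst φ := PowerSeries.HasSubst.of_constantCoeff_zero (ordGE_one_iff.mp hφ)
  rw [hf, PowerSeries.subst_add hs, PowerSeries.subst_smul hs, PowerSeries.subst_pow hs,
    PowerSeries.subst_X hs]

theorem psSubst_X_eq {σ : Type} [Finite σ] (hf : f = π • PowerSeries.X + PowerSeries.X ^ q) :
    (fun i : σ => PowerSeries.subst (X i : MvPowerSeries σ R) f) = ltSub π q :=
  funext fun i => psSubst_eq hf (ordGE_X i)

theorem isEndo_iff {σ : Type} [Finite σ] (hf : f = π • PowerSeries.X + PowerSeries.X ^ q)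
    {φ : MvPowerSeries σ R} (hφ : OrdGE 1 φ) :
    PowerSeries.subst φ f = subst (fun i : σ => PowerSeries.subst (X i : MvPowerSeries σ R) f) φ ↔
      IsEndo π q φ := by
  rw [psSubst_eq hf hφ, psSubst_X_eq hf]; rfl

theorem ps_eq_ltSub (hf : f = π • PowerSeries.X + PowerSeries.X ^ q) :
    (fun _ : Unit => (f : MvPowerSeries Unit R)) = ltSub π q := by
  funext i; subst hf; rfl

theorem ps_ordGE_one {g : PowerSeries R} (hg : g.constantCoeff = 0) :
    OrdGE 1 (g : MvPowerSeries Unit R) := ordGE_one_iff.mpr hg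

theorem isEndo_ps_iff (hf : f = π • PowerSeries.X + PowerSeries.X ^ q) {g : PowerSeries R}
    (hg : g.constantCoeff = 0) :
    PowerSeries.subst g f = PowerSeries.subst f g ↔ IsEndo π q (g : MvPowerSeries Unit R) := by
  rw [psSubst_eq hf (ps_ordGE_one hg), PowerSeries.subst_def f g, ps_eq_ltSub hf]; rfl

theorem ps_coeff_one (g : PowerSeries R) :
    coeff (Finsupp.single () 1) (g : MvPowerSeries Unit R) = PowerSeries.coeff 1 g := rfl

theorem IsEndo.map {S : Type u} [CommRing S] (h : R →+* S) {σ : Type} [Finite σ] (hq : q ≠ 0)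
    {φ : MvPowerSeries σ R} (hφ : IsEndo π q φ) : IsEndo (h π) q (MvPowerSeries.map h φ) := by
  unfold IsEndo at *
  have := congrArg (MvPowerSeries.map h) hφ
  rw [map_subst (hasSubst_ltSub π hq), map_add, map_pow, MvPowerSeries.smul_eq_C_mul, map_mul,
    map_C, ← MvPowerSeries.smul_eq_C_mul] at this
  rw [this]
  congr 1
  funext i
  simp [ltSub, MvPowerSeries.smul_eq_C_mul]

end GrothLib.LubinTate
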